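import Mathlib

namespace H9Monic
open MvPolynomial

variable {k : Type*} [Field k] {K : Type*} [Field K] [Algebra k K] {r : ℕ}

noncomputable def subst (g : Fin r → K) (N : ℕ) :
    MvPolynomial (Fin r) k →ₐ[k] Polynomial (MvPolynomial (Fin r) K) :=
  MvPolynomial.aeval (fun i : Fin r => Polynomial.C (MvPolynomial.X i) + Polynomial.C (MvPolynomial.C (g i)) * Polynomial.X ^ N)

lemma mono_deg (g : Fin r → K) {N : ℕ} (hN : 0 < N) (e : Fin r →₀ ℕ) (c : k) :
    (subst g N (monomial e c)).natDegree ≤ N * e.degree ∧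
    (subst g N (monomial e c)).coeff (N * e.degree) = C (aeval g (monomial e c)) := by
  induction e using Finsupp.induction generalizing c with
  | zero =>
    constructor
    · simp [subst, IsScalarTower.algebraMap_apply k (MvPolynomial (Fin r) K) (Polynomial (MvPolynomial (Fin r) K))]
    · simp [subst, IsScalarTower.algebraMap_apply k (MvPolynomial (Fin r) K) (Polynomial (MvPolynomial (Fin r) K)),
        IsScalarTower.algebraMap_apply k K (MvPolynomial (Fin r) K)]
  | single_add a b f ha hb ih =>
    obtain ⟨h1, h2⟩ := ih c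
    have hm : monomial (Finsupp.single a b + f) c = (X a) ^ b * monomial f c := by
      rw [X_pow_eq_monomial, monomial_mul, one_mul]
    set p : Polynomial (MvPolynomial (Fin r) K) :=
      Polynomial.C (MvPolynomial.X a) + Polynomial.C (MvPolynomial.C (g a)) * Polynomial.X ^ N with hp
    have hps : subst (k := k) g N (X a) = p := by simp [subst, hp]
    have pd : p.natDegree ≤ N := by
      rw [hp]
      refine Polynomial.natDegree_add_le_of_degree_le ?_ (Polynomial.natDegree_C_mul_X_pow_le _ _)
      simp
    have pp : (p ^ b).natDegree ≤ b * N := Polynomial.natDegree_pow_le_of_le b pd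
    rw [hm, map_mul, map_pow, hps, map_add, Finsupp.degree_single, mul_add, mul_comm N b]
    refine ⟨Polynomial.natDegree_mul_le_of_le pp h1, ?_⟩
    rw [Polynomial.coeff_mul_add_eq_of_natDegree_le pp h1, h2, Polynomial.coeff_pow_of_natDegree_le pd,
      map_mul (aeval g), map_pow, aeval_X, map_mul, map_pow]
    congr 1
    congr 1
    simp [hp, Polynomial.coeff_C_ne_zero hN.ne']

lemma subst_deg (g : Fin r → K) {N : ℕ} (hN : 0 < N) (p : MvPolynomial (Fin r) k) {d : ℕ}
    (hd : p.totalDegree ≤ d) :
    (subst g N p).natDegree ≤ N * d ∧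
    (subst g N p).coeff (N * d) = C (aeval g (homogeneousComponent d p)) := by
  classical
  have hs : subst g N p = ∑ e ∈ p.support, subst g N (monomial e (coeff e p)) := by
    conv_lhs => rw [p.as_sum, map_sum]
  have hle : ∀ e ∈ p.support, e.degree ≤ d := fun e he => (le_totalDegree he).trans hd
  refine ⟨?_, ?_⟩
  · rw [hs]
    refine Polynomial.natDegree_sum_le_of_forall_le _ _ (fun e he => ?_)
    exact (mono_deg g hN e _).1.trans (Nat.mul_le_mul_left _ (hle e he))
  · rw [hs, Polynomial.finset_sum_coeff, homogeneousComponent_apply, map_sum, map_sum,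
      Finset.sum_filter]
    refine Finset.sum_congr rfl (fun e he => ?_)
    split_ifs with h
    · rw [← h]; exact (mono_deg g hN e _).2
    · refine Polynomial.coeff_eq_zero_of_natDegree_lt ((mono_deg g hN e _).1.trans_lt ?_)
      exact Nat.mul_lt_mul_of_pos_left (lt_of_le_of_ne (hle e he) h) hN

theorem main (f : Polynomial (MvPolynomial (Fin r) k)) (hf : ¬ IsUnit f) (hf0 : f ≠ 0)
    : ∃ h : MvPolynomial (Fin r) k, h ≠ 0 ∧ ∀ (K : Type*) [Field K] [Algebra k K] (g : Fin r → K) (N : ℕ),
      f.natDegree < N → aeval g h ≠ 0 →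
        ∃ M, 0 < M ∧ (f.eval₂ (subst g N).toRingHom Polynomial.X).natDegree = M ∧
          IsUnit ((f.eval₂ (subst g N).toRingHom Polynomial.X).leadingCoeff) := by
  classical
  set d := f.support.sup (fun j => (f.coeff j).totalDegree) with hd
  have hne : f.support.Nonempty := Polynomial.support_nonempty.mpr hf0
  obtain ⟨j1, hj1, hj1d⟩ := Finset.exists_mem_eq_sup f.support hne (fun j => (f.coeff j).totalDegree)
  set S := f.support.filter (fun j => (f.coeff j).totalDegree = d) with hS
  have hSne : S.Nonempty := ⟨j1, Finset.mem_filter.mpr ⟨hj1, hj1d.symm⟩⟩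
  set j0 := S.max' hSne with hj0
  obtain ⟨hj0s, hj0d⟩ := Finset.mem_filter.mp (S.max'_mem hSne)
  rw [← hj0] at hj0s hj0d
  have hc0 : f.coeff j0 ≠ 0 := Polynomial.mem_support_iff.mp hj0s
  refine ⟨homogeneousComponent d (f.coeff j0), ?_, ?_⟩
  · obtain ⟨e, he, hed⟩ := Finset.exists_mem_eq_sup (f.coeff j0).support
      (MvPolynomial.support_nonempty.mpr hc0) (fun e => e.degree)
    intro h0
    have := congrArg (coeff e) h0
    rw [coeff_homogeneousComponent, coeff_zero, if_pos] at this
    · exact (mem_support_iff.mp he) this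
    · rw [← hj0d, totalDegree]; exact hed.symm
  intro K _ _ g N hN hg
  have hN0 : 0 < N := by omega
  set F := f.eval₂ (subst g N).toRingHom Polynomial.X with hF
  have hFs : F = ∑ j ∈ f.support, subst g N (f.coeff j) * Polynomial.X ^ j := by
    rw [hF, Polynomial.eval₂_eq_sum, Polynomial.sum_def]; rfl
  have hterm : ∀ j ∈ f.support, (subst g N (f.coeff j) * Polynomial.X ^ j).natDegree ≤ N * d + j0 ∧
      (subst g N (f.coeff j) * Polynomial.X ^ j).coeff (N * d + j0) =
        if j = j0 then C (aeval g (homogeneousComponent d (f.coeff j0))) else 0 := by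
    intro j hj
    have hjle : (f.coeff j).totalDegree ≤ d := Finset.le_sup (f := fun j => (f.coeff j).totalDegree) hj
    have hjN : j < N := (Polynomial.le_natDegree_of_mem_supp _ hj).trans_lt hN
    obtain ⟨h1, -⟩ := subst_deg g hN0 (f.coeff j) le_rfl
    have hnd : (subst g N (f.coeff j) * Polynomial.X ^ j).natDegree ≤ N * (f.coeff j).totalDegree + j :=
      Polynomial.natDegree_mul_le_of_le h1 (Polynomial.natDegree_X_pow_le j)
    by_cases hjj : j = j0
    · subst hjj
      rw [if_pos rfl]
      rw [hj0d] at hnd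
      exact ⟨hnd, by rw [Polynomial.coeff_mul_X_pow]; exact (subst_deg g hN0 _ hj0d.le).2⟩
    · rw [if_neg hjj]
      have hlt : N * (f.coeff j).totalDegree + j < N * d + j0 := by
        rcases lt_or_eq_of_le hjle with h | h
        · have : N * ((f.coeff j).totalDegree + 1) ≤ N * d := Nat.mul_le_mul_left _ h
          rw [Nat.mul_succ] at this
          omega
        · have : j ≤ j0 := S.le_max' j (Finset.mem_filter.mpr ⟨hj, h⟩)
          rw [h]; omega
      exact ⟨(hnd.trans_lt hlt).le, Polynomial.coeff_eq_zero_of_natDegree_lt (hnd.trans_lt hlt)⟩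
  have hdeg : F.natDegree ≤ N * d + j0 := by
    rw [hFs]; exact Polynomial.natDegree_sum_le_of_forall_le _ _ (fun j hj => (hterm j hj).1)
  have hco : F.coeff (N * d + j0) = C (aeval g (homogeneousComponent d (f.coeff j0))) := by
    rw [hFs, Polynomial.finset_sum_coeff, Finset.sum_congr rfl (fun j hj => (hterm j hj).2),
      Finset.sum_ite_eq' f.support j0 (fun _ => C (aeval g (homogeneousComponent d (f.coeff j0)))),
      if_pos hj0s]
  have hu : IsUnit (F.coeff (N * d + j0)) := hco ▸ (IsUnit.mk0 _ hg).map C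
  have heq : F.natDegree = N * d + j0 := le_antisymm hdeg (Polynomial.le_natDegree_of_ne_zero hu.ne_zero)
  refine ⟨N * d + j0, ?_, heq, by rw [Polynomial.leadingCoeff, heq]; exact hu⟩
  by_contra h
  have h' : N * d + j0 = 0 := by omega
  obtain ⟨hd0', hj00⟩ := Nat.add_eq_zero_iff.mp h'
  have hd0 : d = 0 := (Nat.mul_eq_zero.mp hd0').resolve_left hN0.ne'
  apply hf
  have : f = Polynomial.C (f.coeff 0) := by
    ext1 j
    rcases eq_or_ne j 0 with rfl | hj
    · simp
    · rw [Polynomial.coeff_C_ne_zero hj]
      by_contra hc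
      have hjs : j ∈ f.support := Polynomial.mem_support_iff.mpr hc
      have : j ≤ j0 := S.le_max' j (Finset.mem_filter.mpr ⟨hjs, by
        have := Finset.le_sup (f := fun j => (f.coeff j).totalDegree) hjs
        omega⟩)
      omega
  rw [this]
  refine Polynomial.isUnit_C.mpr ?_
  rw [hj00] at hc0 hj0d
  rw [totalDegree_eq_zero_iff_eq_C.mp (hj0d.trans hd0)]
  refine (IsUnit.mk0 _ ?_).map C
  intro h0
  exact hc0 (by rw [totalDegree_eq_zero_iff_eq_C.mp (hj0d.trans hd0), h0, map_zero])

end H9Monic
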